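import Mathlib
import Cfsg.Agent.Lib.F4Mat78.Basic
import Cfsg.Agent.Lib.Fi22InE6.Data
import Cfsg.Agent.Lib.OutAut.OmegaSevenE6.Data
import Cfsg.Prelude.Def_ChevE6

/-!
Only scalars commute with the eight involutions generating `Ω(7,3)` inside `²E₆(2)`.
-/

set_option autoImplicit false
set_option maxRecDepth 100000
set_option maxHeartbeats 0

namespace CfsgLib.OutAut.OmegaSevenE6

open Cfsg.Lie CfsgLib.Chevalley CfsgLib.F4Mat78
open scoped Matrix

/-- The packed matrices of `b, …, i`. -/
def Ys : List Mat :=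
  [Fi22InE6.Data.yb, Fi22InE6.Data.yc, Fi22InE6.Data.yd, Fi22InE6.Data.ye,
    Fi22InE6.Data.yf, Fi22InE6.Data.yg, Fi22InE6.Data.yh, Fi22InE6.Data.yi]

/-- Entrywise sum. -/
def addM (A B : Mat) : Mat := List.zipWith (fun r s => (r.1 ^^^ s.1, r.2 ^^^ s.2)) A B

/-- The factor of a word. -/
noncomputable def factorM (l : List ℕ) : Mat := addM (prodM 78 (l.map fun i => Ys.getD i [])) (oneM 78)

theorem am_eq : prodM 78 (Data.factors.map factorM) = Data.am := by decide +kernel

theorem factors_lt : ∀ l ∈ Data.factors, ∀ i ∈ l, i < Ys.length := by decide +kernel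

theorem ys_length : ∀ M ∈ Ys, M.length = 78 := by decide +kernel

theorem am_check : scalarCheck chevE6 Data.am Data.rows Data.rowsInv Ys Data.steps Data.i0 Data.j0 := by
  unfold scalarCheck
  decide +kernel

variable {K : Type*} [Field K] [CharP K 2] {w : K}

theorem toMat_addM {A B : Mat} (hA : A.length = 78) (hB : B.length = 78) :
    toMat chevE6 w (addM A B) = toMat chevE6 w A + toMat chevE6 w B := by
  ext a b
  have hi : ((code chevE6 a : Fin _) : ℕ) < 78 := (code chevE6 a).isLt
  simp only [toMat, Matrix.add_apply, Matrix.of_apply, ent, addM, List.getD_eq_getElem?_getD,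
    List.getElem?_zipWith, List.getElem?_eq_getElem (hA ▸ hi : _ < A.length),
    List.getElem?_eq_getElem (hB ▸ hi : _ < B.length), Option.getD_some, Nat.testBit_xor]
  exact val_xor _ _ _ _

/-- A matrix commuting with the eight involutions is scalar. -/
theorem scalar_of_commute (hw : w * w = w + 1)
    {C : Matrix chevE6.Idx chevE6.Idx K} (hC : ∀ M ∈ Ys, C * toMat chevE6 w M = toMat chevE6 w M * C) :
    ∃ c : K, C = c • (1 : Matrix chevE6.Idx chevE6.Idx K) := by
  have hone : (oneM 78).length = 78 := by simp [oneM]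
  have hmul : ∀ (l : List Mat), (∀ M ∈ l, M.length = 78 ∧ C * toMat chevE6 w M = toMat chevE6 w M * C) →
      (prodM 78 l).length = 78 ∧ C * toMat chevE6 w (prodM 78 l) = toMat chevE6 w (prodM 78 l) * C := by
    intro l
    induction l with
    | nil =>
      intro _
      refine ⟨hone, ?_⟩
      rw [show prodM 78 [] = oneM (chevE6.rank + chevE6.nroots) from rfl, toMat_one, mul_one, one_mul]
    | cons M l ih =>
      intro h
      obtain ⟨h1, h2⟩ := h M (List.mem_cons_self ..)
      obtain ⟨h3, h4⟩ := ih fun x hx => h x (List.mem_cons_of_mem _ hx)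
      have e : prodM 78 (M :: l) = mulM M (prodM 78 l) := rfl
      refine ⟨by rw [e, mulM, List.length_map, h1], ?_⟩
      rw [e, toMat_mul (D := chevE6) hw h1 h3, ← mul_assoc, h2, mul_assoc, h4, ← mul_assoc]
  have hAm := hmul (Data.factors.map factorM) fun M hM => by
    obtain ⟨l, hl, rfl⟩ := List.mem_map.1 hM
    obtain ⟨h1, h2⟩ := hmul (l.map fun i => Ys.getD i []) fun X hX => by
      obtain ⟨i, hi, rfl⟩ := List.mem_map.1 hX
      have hlt := factors_lt l hl i hi
      have hmem : Ys.getD i [] ∈ Ys := by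
        rw [List.getD_eq_getElem?_getD, List.getElem?_eq_getElem hlt, Option.getD_some]
        exact List.getElem_mem hlt
      exact ⟨ys_length _ hmem, hC _ hmem⟩
    refine ⟨by rw [factorM, addM, List.length_zipWith, h1, hone, min_self], ?_⟩
    rw [factorM, toMat_addM h1 hone, mul_add, add_mul, h2,
      show oneM 78 = oneM (chevE6.rank + chevE6.nroots) from rfl, toMat_one, mul_one, one_mul]
  rw [am_eq] at hAm
  exact scalar_of_cert hw am_check ys_length hAm.1 hAm.2 hC

end CfsgLib.OutAut.OmegaSevenE6
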