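import Mathlib
import Cfsg.Agent.Lib.OutAut.OmegaSevenE6
import Cfsg.Agent.Lib.OutAut.OmegaSevenE6.Commutant

/-!
Three classes of subgroups `Ω(7,3)` in `²E₆(2)` from a matrix representation of the presented `Fi₂₂`.
-/

set_option autoImplicit false

namespace CfsgLib.OutAut.OmegaSevenE6

open Cfsg.Lie CfsgLib.Chevalley CfsgLib.TwistedE6Involutions CfsgLib.F4Mat78
open Cfsg.Spor.Fi22 (Gen)
open CfsgLib.SporadicB.Fi22 (P22 O7sub og)

variable {K : Type*} [Field K] [Fintype K] [CharP K 2] {σ : K →+* K}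

theorem b_entry : ((Fi22InE6.Data.yb.getD 6 (0, 0)).1.testBit 14 = true ∧
    (Fi22InE6.Data.yb.getD 6 (0, 0)).2.testBit 14 = false) ∧ (code chevE6 (code chevE6 |>.symm ⟨6, by decide⟩) : ℕ) = 6 := by
  refine ⟨by decide +kernel, by simp⟩

/-- The eight generators of `Ω(7,3)` and their matrices. -/
theorem og_mem_O7sub : ∀ x : Gen, x ≠ .a → og x ∈ O7sub := by
  intro x hx
  cases x
  all_goals first
    | exact absurd rfl hx
    | exact Subgroup.mem_map.2 ⟨_, Subgroup.subset_closure (by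
        simp [Cfsg.Spor.Fi22.b, Cfsg.Spor.Fi22.c, Cfsg.Spor.Fi22.d, Cfsg.Spor.Fi22.e, Cfsg.Spor.Fi22.f,
          Cfsg.Spor.Fi22.g, Cfsg.Spor.Fi22.h, Cfsg.Spor.Fi22.i]), rfl⟩

/-- Three classes of `Ω(7,3)`, from the matrices of the generators of the presented `Fi₂₂`. -/
theorem exists_three_of_rep (S : Setting σ 2) {w : K} (hcard : Nat.card Kˣ = 3) {u : Kˣ}
    (hu : orderOf u = 3) (hw : w * w = w + 1) (ρ : P22 →* GL chevE6.Idx K)
    (hρ : ∀ x, ρ x ∈ twistedE6 K 2)
    (hb : Rep chevE6 w (ρ (og .b)) Fi22InE6.Data.yb) (hc : Rep chevE6 w (ρ (og .c)) Fi22InE6.Data.yc)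
    (hd : Rep chevE6 w (ρ (og .d)) Fi22InE6.Data.yd) (he : Rep chevE6 w (ρ (og .e)) Fi22InE6.Data.ye)
    (hf : Rep chevE6 w (ρ (og .f)) Fi22InE6.Data.yf) (hg : Rep chevE6 w (ρ (og .g)) Fi22InE6.Data.yg)
    (hh : Rep chevE6 w (ρ (og .h)) Fi22InE6.Data.yh) (hi : Rep chevE6 w (ρ (og .i)) Fi22InE6.Data.yi) :
    ∃ H : Fin 3 → Subgroup (twistedE6 K 2),
      (∀ i, Nonempty ((H i) ≃* Cfsg.Omega (ZMod 3) (Cfsg.quadFormOdd 3 (ZMod 3)))) ∧
      (∀ i j, i ≠ j → ∀ g : twistedE6 K 2, (H i).map (MulAut.conj g).toMonoidHom ≠ H j) := by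
  refine exists_three S hcard hu ρ hρ (fun e => ?_) fun y hy z => ?_
  · have h := hb.2
    rw [e, Units.val_one] at h
    have h1 := congrFun (congrFun h ((code chevE6).symm ⟨6, by decide⟩)) ((code chevE6).symm ⟨14, by decide⟩)
    rw [Matrix.one_apply_ne (by simp), toMat, Matrix.of_apply, Equiv.apply_symm_apply,
      Equiv.apply_symm_apply, ent, b_entry.1.1, b_entry.1.2] at h1
    simp [val] at h1
  · obtain ⟨c, hc'⟩ := scalar_of_commute (C := (y : Matrix chevE6.Idx chevE6.Idx K)) hw fun M hM => by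
      simp only [Ys, List.mem_cons, List.not_mem_nil, or_false] at hM
      rcases hM with rfl | rfl | rfl | rfl | rfl | rfl | rfl | rfl
      all_goals
        first
          | (rw [← hb.2]; exact congrArg Units.val (hy _ (og_mem_O7sub _ (by decide))).eq)
          | (rw [← hc.2]; exact congrArg Units.val (hy _ (og_mem_O7sub _ (by decide))).eq)
          | (rw [← hd.2]; exact congrArg Units.val (hy _ (og_mem_O7sub _ (by decide))).eq)
          | (rw [← he.2]; exact congrArg Units.val (hy _ (og_mem_O7sub _ (by decide))).eq)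
          | (rw [← hf.2]; exact congrArg Units.val (hy _ (og_mem_O7sub _ (by decide))).eq)
          | (rw [← hg.2]; exact congrArg Units.val (hy _ (og_mem_O7sub _ (by decide))).eq)
          | (rw [← hh.2]; exact congrArg Units.val (hy _ (og_mem_O7sub _ (by decide))).eq)
          | (rw [← hi.2]; exact congrArg Units.val (hy _ (og_mem_O7sub _ (by decide))).eq)
    refine Units.ext ?_
    rw [Units.val_mul, Units.val_mul, hc', Matrix.smul_mul, Matrix.mul_smul, one_mul, mul_one]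

end CfsgLib.OutAut.OmegaSevenE6
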