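import Cfsg.Agent.Lib.OutAut.OmegaSevenE6.Assemble
import Cfsg.Agent.Lib.Fi22InE6.Data
import Cfsg.Agent.Lib.Twisted.Twist

/-!
A homomorphism from the presented `Fi₂₂` to `²E₆(2)`: nine involutions given as conjugates of a root element
by words in twelve generators, with the relations checked on packed matrices over four elements.
-/

set_option autoImplicit false

namespace CfsgLib.OutAut.OmegaSevenE6.Hom

open Cfsg.Lie CfsgLib.Chevalley CfsgLib.TwistedE6Involutions CfsgLib.F4Mat78
open Cfsg.Spor.Fi22 (Gen edges extra)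
open CfsgLib.SporadicB.Fi22 (P22 og)

/-- The twelve generators: roots with coefficient `a + b w`. -/
def gensL : List (List (ℕ × Bool × Bool)) := [
  [(46, true, false)],
  [(25, true, false)],
  [(39, true, false)],
  [(32, true, false)],
  [(56, true, false), (36, true, false)],
  [(56, false, true), (36, true, true)],
  [(15, true, false), (35, true, false)],
  [(15, false, true), (35, true, true)],
  [(42, true, false), (37, true, false)],
  [(42, false, true), (37, true, true)],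
  [(29, true, false), (34, true, false)],
  [(29, false, true), (34, true, true)]]

/-- Their matrices. -/
def gM (i : ℕ) : Mat := [Fi22InE6.Data.g0, Fi22InE6.Data.g1, Fi22InE6.Data.g2, Fi22InE6.Data.g3, Fi22InE6.Data.g4, Fi22InE6.Data.g5, Fi22InE6.Data.g6, Fi22InE6.Data.g7, Fi22InE6.Data.g8, Fi22InE6.Data.g9, Fi22InE6.Data.g10, Fi22InE6.Data.g11].getD i []

/-- Conjugating words. -/
def half : Gen → List ℕ
  | .a => [3, 11, 1, 3, 10, 0, 2, 8, 6, 10, 4, 0, 2, 8, 2, 3, 1]
  | .b => [3, 2, 8, 10, 0, 2, 8, 5, 6, 3, 11, 0, 2, 8, 1, 3, 2, 1]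
  | .c => [4, 2, 9, 2, 3, 10, 5, 8, 7, 1, 3, 11, 1, 3, 2, 1]
  | .d => []
  | .e => [9, 3, 1, 3, 11, 3, 2, 8, 4, 6, 11, 8, 2, 3, 1]
  | .f => [9, 10, 6, 4, 2, 8, 6, 3, 10, 1, 3, 2, 1]
  | .g => [5, 8, 7, 3, 11, 7, 2, 1, 3, 11, 8, 5, 8, 3, 2, 1]
  | .h => [2, 3, 10, 5, 0, 2, 8, 6, 2, 3, 10, 5, 8, 2, 3, 1]
  | .i => [10, 3, 2, 8, 11, 6, 5, 9, 2, 1, 3, 11, 3, 1]

/-- The nine words. -/
def yw (x : Gen) : List ℕ := half x ++ 0 :: (half x).reverse

/-- Their matrices. -/
def yM : Gen → Mat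
  | .a => Fi22InE6.Data.ya
  | .b => Fi22InE6.Data.yb
  | .c => Fi22InE6.Data.yc
  | .d => Fi22InE6.Data.yd
  | .e => Fi22InE6.Data.ye
  | .f => Fi22InE6.Data.yf
  | .g => Fi22InE6.Data.yg
  | .h => Fi22InE6.Data.yh
  | .i => Fi22InE6.Data.yi

/-- All generators. -/
def allGen : List Gen := [.a, .b, .c, .d, .e, .f, .g, .h, .i]

theorem mem_allGen (x : Gen) : x ∈ allGen := by cases x <;> decide

theorem gM_ok : ∀ i ∈ List.range 12,
    prodM 78 ((gensL.getD i []).map fun e => genM chevE6 e.2.1 e.2.2 e.1) = gM i := by decide +kernel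

theorem gensL_lt : ∀ i ∈ List.range 12, ∀ e ∈ gensL.getD i [], e.1 < chevE6.nroots := by decide +kernel

theorem yw_lt : ∀ x ∈ allGen, ∀ i ∈ yw x, i ∈ List.range 12 := by decide +kernel

theorem yM_ok : ∀ x ∈ allGen, prodM 78 ((yw x).map gM) = yM x := by decide +kernel

theorem cox_ok : ∀ x ∈ allGen, ∀ y ∈ allGen,
    prodM 78 (List.replicate (Cfsg.Spor.coxLabel edges x y) (mulM (yM x) (yM y))) = oneM 78 := by
  decide +kernel

/-- The three long relators. -/
def extraL : List (List Gen × ℕ) :=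
  [([.d, .c, .b, .d, .e, .f, .d, .h, .i], 10), ([.a, .b, .c, .d, .e, .f, .h], 9),
    ([.b, .c, .d, .e, .f, .g, .h], 9)]

theorem extra_ok : ∀ p ∈ extraL, prodM 78 (List.replicate p.2 (prodM 78 (p.1.map yM))) = oneM 78 := by
  decide +kernel

theorem extra_eq : extra = extraL.map fun p => (p.1.map FreeGroup.of).prod ^ p.2 := by
  simp [extra, extraL, mul_assoc]

variable {K : Type*} [Field K] [CharP K 2] {w : K}

/-- A generator. -/
noncomputable def gE (w : K) (i : ℕ) : GL chevE6.Idx K :=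
  Twisted.wordG full.cert ((gensL.getD i []).map fun e => (e.1, val w e.2.1 e.2.2))

/-- One of the nine involutions. -/
noncomputable def yE (w : K) (x : Gen) : GL chevE6.Idx K := ((yw x).map (gE w)).prod

variable (hw : w * w = w + 1)
include hw

theorem rep_gE {i : ℕ} (hi : i ∈ List.range 12) : Rep chevE6 w (gE w i) (gM i) := by
  rw [← gM_ok i hi, gE, Twisted.wordG, List.map_map]
  refine Rep.prod hw (List.forall₂_map_left_iff.2 (List.forall₂_map_right_iff.2 ?_))
  exact List.forall₂_same.2 fun e he => rep_xG hw full.cert (gensL_lt i hi e he) _ _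

theorem rep_yE (x : Gen) : Rep chevE6 w (yE w x) (yM x) := by
  rw [← yM_ok x (mem_allGen x), yE]
  refine Rep.prod hw (List.forall₂_map_left_iff.2 (List.forall₂_map_right_iff.2 ?_))
  exact List.forall₂_same.2 fun i hi => rep_gE hw (yw_lt x (mem_allGen x) i hi)

theorem rep_pow {g : GL chevE6.Idx K} {M : Mat} (h : Rep chevE6 w g M) (k : ℕ) :
    Rep chevE6 w (g ^ k) (prodM 78 (List.replicate k M)) := by
  rw [← List.prod_replicate]
  refine Rep.prod hw ?_
  induction k with
  | zero => exact List.Forall₂.nil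
  | succ k ih => exact List.Forall₂.cons h ih

theorem lift_rel : ∀ r ∈ Cfsg.Spor.coxRelators edges ∪ {r | r ∈ extra},
    FreeGroup.lift (yE w) r = 1 := by
  rintro r (⟨x, -, y, -, rfl⟩ | hr)
  · rw [map_pow, map_mul, FreeGroup.lift_apply_of, FreeGroup.lift_apply_of]
    exact Rep.eq (rep_pow hw ((rep_yE hw x).mul hw (rep_yE hw y)) _) Rep.one
      (cox_ok x (mem_allGen x) y (mem_allGen y))
  · rw [Set.mem_setOf_eq, extra_eq, List.mem_map] at hr
    obtain ⟨p, hp, rfl⟩ := hr
    rw [map_pow, map_list_prod, List.map_map]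
    refine Rep.eq (rep_pow hw (Rep.prod hw ?_) _) Rep.one (extra_ok p hp)
    refine List.forall₂_map_left_iff.2 (List.forall₂_map_right_iff.2 (List.forall₂_same.2 fun x _ => ?_))
    rw [Function.comp_apply, FreeGroup.lift_apply_of]
    exact rep_yE hw x

/-- The homomorphism. -/
noncomputable def rho : P22 →* GL chevE6.Idx K := PresentedGroup.toGroup (lift_rel hw)

theorem rho_og (x : Gen) : rho hw (og x) = yE w x := PresentedGroup.toGroup.of (lift_rel hw)

theorem rep_og (x : Gen) : Rep chevE6 w (rho hw (og x)) (yM x) := by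
  rw [rho_og]; exact rep_yE hw x

theorem gE_mem (i : ℕ) : gE w i ∈ twistedE6 K 2 := by
  rcases Nat.lt_or_ge i 12 with hi | hi
  · refine Twisted.wordG_mem_gen full.cert ?_
    have h1 : (1 : K) ^ 2 = 1 := one_pow 2
    have h2 : w ^ 2 = 1 + w := by rw [pow_two, hw, add_comm]
    interval_cases i
    · exact Or.inl ⟨1, h1, 46, by decide, by simp [gensL, val]⟩
    · exact Or.inl ⟨1, h1, 25, by decide, by simp [gensL, val]⟩
    · exact Or.inl ⟨1, h1, 39, by decide, by simp [gensL, val]⟩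
    · exact Or.inl ⟨1, h1, 32, by decide, by simp [gensL, val]⟩
    · exact Or.inr ⟨1, (56, 36), by decide, by simp [gensL, val]⟩
    · exact Or.inr ⟨w, (56, 36), by decide, by simp [gensL, val, h2]⟩
    · exact Or.inr ⟨1, (15, 35), by decide, by simp [gensL, val]⟩
    · exact Or.inr ⟨w, (15, 35), by decide, by simp [gensL, val, h2]⟩
    · exact Or.inr ⟨1, (42, 37), by decide, by simp [gensL, val]⟩
    · exact Or.inr ⟨w, (42, 37), by decide, by simp [gensL, val, h2]⟩
    · exact Or.inr ⟨1, (29, 34), by decide, by simp [gensL, val]⟩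
    · exact Or.inr ⟨w, (29, 34), by decide, by simp [gensL, val, h2]⟩
  · rw [gE, List.getD_eq_default _ _ (by simpa [gensL] using hi), List.map_nil, Twisted.wordG]
    exact Subgroup.one_mem _

theorem rho_mem (z : P22) : rho hw z ∈ twistedE6 K 2 := by
  have h : Subgroup.closure (Set.range (og)) ≤ (twistedE6 K 2).comap (rho hw) := by
    rw [Subgroup.closure_le]
    rintro _ ⟨x, rfl⟩
    rw [SetLike.mem_coe, Subgroup.mem_comap, rho_og, yE]
    refine Subgroup.list_prod_mem _ fun g hg => ?_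
    obtain ⟨i, -, rfl⟩ := List.mem_map.1 hg
    exact gE_mem hw i
  exact h (by rw [show Set.range og = Set.range (PresentedGroup.of (rels :=
    Cfsg.Spor.coxRelators edges ∪ {r | r ∈ extra})) from rfl, PresentedGroup.closure_range_of]; trivial)

/-- Three classes of `Ω(7,3)` in `²E₆(2)`. -/
theorem exists_three_omega7 [Fintype K] {σ : K →+* K} (S : Setting σ 2) (hcard : Nat.card Kˣ = 3)
    {u : Kˣ} (hu : orderOf u = 3) :
    ∃ H : Fin 3 → Subgroup (twistedE6 K 2),
      (∀ i, Nonempty ((H i) ≃* Cfsg.Omega (ZMod 3) (Cfsg.quadFormOdd 3 (ZMod 3)))) ∧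
      (∀ i j, i ≠ j → ∀ g : twistedE6 K 2, (H i).map (MulAut.conj g).toMonoidHom ≠ H j) :=
  exists_three_of_rep S hcard hu hw (rho hw) (rho_mem hw) (rep_og hw .b) (rep_og hw .c) (rep_og hw .d)
    (rep_og hw .e) (rep_og hw .f) (rep_og hw .g) (rep_og hw .h) (rep_og hw .i)

end CfsgLib.OutAut.OmegaSevenE6.Hom
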